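import Mathlib
import Groth.Prelude.Def_Frob
import Groth.Prelude.Def_W4c3convisocdirimgFrobIter

set_option autoImplicit false
set_option backward.isDefEq.respectTransparency.types false
set_option synthInstance.maxHeartbeats 400000
set_option maxHeartbeats 4000000
set_option linter.style.haveILetI false
set_option linter.unusedSectionVars false
set_option linter.unusedVariables false
set_option linter.unusedSimpArgs false
set_option linter.unnecessarySimpa false

/-!
# Iterated Frobenius and its scheme-theoretic images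
-/

universe u

open CategoryTheory CategoryTheory.Limits AlgebraicGeometry FrobSch

namespace Groth.Agent.Helper2.FrobIterLib

section

variable (X : Scheme.{u}) (p : ℕ) [Fact p.Prime] [IsCharP X p]

instance quasiCompact_frob : QuasiCompact (frob X p) := ⟨fun U _ hc => hc⟩

instance quasiCompact_frobIter (n : ℕ) : QuasiCompact (frobIter X p n) := by
  induction n with
  | zero => rw [frobIter_zero]; infer_instance
  | succ n ih => rw [frobIter_succ]; infer_instance

theorem frobIter_app_eq_zero_iff (n : ℕ) (U : X.Opens) (s : Γ(X, U)) :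
    (frobIter X p n).app U s = 0 ↔ s ^ p ^ n = 0 := by
  induction n generalizing s with
  | zero =>
    rw [frobIter_zero, pow_zero, pow_one]
    exact Iff.rfl
  | succ n ih =>
    have h2 : (frobIter X p (n + 1)).app U s = 0 ↔ (frobIter X p n).app U (s ^ p) = 0 := by
      rw [map_pow]
      exact Iff.rfl
    rw [h2, ih, ← pow_mul, pow_succ']

theorem exists_frob_factor (n : ℕ) :
    ∃ φ : (frobIter X p n).ker.subscheme ⟶ (frobIter X p (n + 1)).ker.subscheme,
      φ ≫ (frobIter X p (n + 1)).ker.subschemeι =
        (frobIter X p n).ker.subschemeι ≫ frob X p := by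
  refine ⟨IsClosedImmersion.lift ((frobIter X p (n + 1)).ker.subschemeι)
    ((frobIter X p n).ker.subschemeι ≫ frob X p) ?_, IsClosedImmersion.lift_fac _ _ _⟩
  rw [Scheme.IdealSheafData.ker_subschemeι, Scheme.IdealSheafData.le_def]
  intro U s hs
  rw [Scheme.Hom.ker_apply, RingHom.mem_ker] at hs ⊢
  rw [frobIter_app_eq_zero_iff] at hs
  have h2 : s ^ p ∈ (frobIter X p n).ker.ideal U := by
    rw [Scheme.Hom.ker_apply, RingHom.mem_ker, frobIter_app_eq_zero_iff, ← pow_mul, ← pow_succ']
    exact hs
  have h3 : s ^ p ∈ ((frobIter X p n).ker.subschemeι).ker.ideal U := by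
    rw [Scheme.IdealSheafData.ker_subschemeι]
    exact h2
  have h4 := Scheme.Hom.ideal_ker_le _ U h3
  rw [RingHom.mem_ker] at h4
  exact h4

end

theorem main16483 (p : ℕ) [Fact p.Prime]
    (k : Type u) [Field k] [CharP k p] (n : ℕ)
    {T X : Scheme.{u}} [FrobSch.IsCharP T p] (t : T ⟶ Spec (CommRingCat.of k))
    (x : X ⟶ Spec (CommRingCat.of k))
    (i : T.nilradical.subscheme ⟶ (FrobSch.frobIter T p (n + 1)).ker.subscheme)
    (hi : i ≫ (FrobSch.frobIter T p (n + 1)).ker.subschemeι = T.nilradical.subschemeι)
    (j : T.nilradical.subscheme ⟶ (FrobSch.frobIter T p n).ker.subscheme)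
    (hj : j ≫ (FrobSch.frobIter T p n).ker.subschemeι = T.nilradical.subschemeι)
    (w : (FrobSch.frobIter T p (n + 1)).ker.subscheme ⟶ X)
    (hw : w ≫ x = (FrobSch.frobIter T p (n + 1)).ker.subschemeι ≫ t) :
    ∃ v : (FrobSch.frobIter T p n).ker.subscheme ⟶ FrobSch.frobTwist x p,
      v ≫ pullback.snd x (FrobSch.frob (Spec (CommRingCat.of k)) p) =
          (FrobSch.frobIter T p n).ker.subschemeι ≫ t ∧
        j ≫ v = i ≫ w ≫ FrobSch.relFrob x p := by
  obtain ⟨φ, hφ⟩ := exists_frob_factor T p n
  haveI hX : IsCharP X p := IsCharP.of_hom x p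
  haveI hZ1 : IsCharP (frobIter T p (n + 1)).ker.subscheme p :=
    IsCharP.of_hom (frobIter T p (n + 1)).ker.subschemeι p
  haveI hZ0 : IsCharP (frobIter T p n).ker.subscheme p :=
    IsCharP.of_hom (frobIter T p n).ker.subschemeι p
  haveI hT0 : IsCharP T.nilradical.subscheme p := IsCharP.of_hom T.nilradical.subschemeι p
  have h1 : (φ ≫ w) ≫ x = ((frobIter T p n).ker.subschemeι ≫ t) ≫
      frob (Spec (CommRingCat.of k)) p := by
    rw [Category.assoc, hw, ← Category.assoc, hφ, Category.assoc, Category.assoc, frob_comp]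
  refine ⟨pullback.lift (φ ≫ w) ((frobIter T p n).ker.subschemeι ≫ t) h1,
    pullback.lift_snd _ _ _, ?_⟩
  have h2 : j ≫ φ = frob T.nilradical.subscheme p ≫ i := by
    rw [← cancel_mono (frobIter T p (n + 1)).ker.subschemeι, Category.assoc, hφ,
      ← Category.assoc, hj, Category.assoc, hi, frob_comp]
  apply pullback.hom_ext
  · rw [Category.assoc, pullback.lift_fst, Category.assoc, Category.assoc, relFrob_fst,
      ← frob_comp p w, ← Category.assoc, ← Category.assoc, h2, frob_comp p i]
  · rw [Category.assoc, pullback.lift_snd, Category.assoc, Category.assoc, relFrob_snd,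
      hw, ← Category.assoc j, hj, ← Category.assoc i, hi]

end Groth.Agent.Helper2.FrobIterLib
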